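import Cfsg.Agent.Lib.Spectrum.SolvablePSpFourThree.Group

/-!
# The element orders of the extension by the scalings and the Frobenius map
-/

set_option autoImplicit false
set_option linter.unusedSectionVars false

namespace CfsgLib.Spectrum.SolvPSp43

open scoped commutatorElement

/-- The set of the divisors of `5`, `9` and `12`. -/
theorem range_orderOf_eq {G : Type*} [Group G] [Finite G]
    (h : ∀ g : G, orderOf g ∣ 5 ∨ orderOf g ∣ 9 ∨ orderOf g ∣ 12)
    (h5 : ∃ g : G, orderOf g = 5) (h9 : ∃ g : G, orderOf g = 9) (h12 : ∃ g : G, orderOf g = 12) :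
    Set.range (orderOf : G → ℕ) = {n | n ∣ 5 ∨ n ∣ 9 ∨ n ∣ 12} := by
  have key : ∀ m, (∃ g : G, orderOf g = m) → 0 < m → ∀ n, n ∣ m → ∃ g : G, orderOf g = n := by
    rintro m ⟨g, hg⟩ hm n hn
    refine ⟨g ^ (m / n), ?_⟩
    have h1 : m / n ≠ 0 := (Nat.div_pos (Nat.le_of_dvd hm hn) (Nat.pos_of_dvd_of_pos hn hm)).ne'
    rw [orderOf_pow' g h1, hg, Nat.gcd_eq_right (Nat.div_dvd_of_dvd hn), Nat.div_div_self hn hm.ne']
  ext n
  refine ⟨?_, ?_⟩
  · rintro ⟨g, rfl⟩
    exact h g
  · rintro (hn | hn | hn)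
    · exact key 5 h5 (by norm_num) n hn
    · exact key 9 h9 (by norm_num) n hn
    · exact key 12 h12 (by norm_num) n hn

variable {K : Type*} [Field K] [CharP K 3] [Fintype K] (h81 : ∀ x : K, x ^ 81 = x) {ω : K}
  (hω : ω ^ 5 = 1)

theorem γ_pow_mul_β_pow (j i : ℕ) :
    (γ : MulAut (A K)) ^ j * β hω ^ i = β hω ^ (3 ^ j * i) * γ ^ j := by
  have h1 : ∀ i : ℕ, (γ : MulAut (A K)) * β hω ^ i = β hω ^ (3 * i) * γ := by
    intro i
    induction i with
    | zero => simp
    | succ i ih =>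
      rw [pow_succ, ← mul_assoc, ih, mul_assoc, γ_mul_β, ← mul_assoc, ← pow_add,
        show 3 * i + 3 = 3 * (i + 1) by ring]
  induction j generalizing i with
  | zero => simp
  | succ j ih =>
    rw [pow_succ', mul_assoc, ih, ← mul_assoc, h1, mul_assoc, pow_succ' 3 j,
      show 3 * (3 ^ j * i) = 3 * 3 ^ j * i by ring]

theorem βγ_mul (i j i' j' : ℕ) :
    (β hω ^ i * γ ^ j : MulAut (A K)) * (β hω ^ i' * γ ^ j') =
      β hω ^ (i + 3 ^ j * i') * γ ^ (j + j') := by
  rw [mul_assoc, ← mul_assoc (γ ^ j), γ_pow_mul_β_pow, mul_assoc, ← pow_add, ← mul_assoc,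
    ← pow_add]

theorem β_pow_mod (i : ℕ) : β (K := K) hω ^ i = β hω ^ (i % 5) := by
  conv_lhs => rw [← Nat.mod_add_div i 5, pow_add, pow_mul, β_pow_five, one_pow, mul_one]

include h81 in
theorem γ_pow_mod (j : ℕ) : (γ : MulAut (A K)) ^ j = γ ^ (j % 4) := by
  conv_lhs => rw [← Nat.mod_add_div j 4, pow_add, pow_mul, γ_pow_four h81, one_pow, mul_one]

/-- The complement. -/
noncomputable def Q : Subgroup (MulAut (A K)) where
  carrier := {ψ | ∃ i j : ℕ, ψ = β hω ^ i * γ ^ j}
  one_mem' := ⟨0, 0, by simp⟩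
  mul_mem' := by
    rintro a b ⟨i, j, rfl⟩ ⟨i', j', rfl⟩
    exact ⟨_, _, βγ_mul hω i j i' j'⟩
  inv_mem' := by
    rintro a ⟨i, j, rfl⟩
    refine ⟨3 ^ (3 * j) * (4 * i), 3 * j, ?_⟩
    rw [← γ_pow_mul_β_pow, mul_inv_rev]
    have e1 : (γ : MulAut (A K)) ^ (3 * j) = ((γ : MulAut (A K)) ^ j)⁻¹ := eq_inv_of_mul_eq_one_left (by
      rw [← pow_add, show 3 * j + j = 4 * j by ring, pow_mul, γ_pow_four h81, one_pow])
    have e2 : β (K := K) hω ^ (4 * i) = (β hω ^ i)⁻¹ := eq_inv_of_mul_eq_one_left (by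
      rw [← pow_add, show 4 * i + i = 5 * i by ring, pow_mul, β_pow_five, one_pow])
    rw [e1, e2]

theorem mem_Q {ψ : MulAut (A K)} : ψ ∈ Q h81 hω ↔ ∃ i j : ℕ, ψ = β hω ^ i * γ ^ j := Iff.rfl

/-- The group. -/
abbrev Grp : Type _ := A K ⋊[(Q h81 hω).subtype] ↥(Q h81 hω)

theorem β_pow_apply (n : ℕ) (b : A K) : (β hω ^ n) b =
    ⟨(ω ^ n) ^ 3 * b.p, ω ^ n * b.l, (ω ^ n) ^ 3 * b.r, (ω ^ n) ^ 3 * b.s, (ω ^ n) ^ 4 * b.s',
      (ω ^ n) ^ 4 * b.u, (ω ^ n) ^ 3 * b.u', ω ^ n * b.z⟩ := by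
  induction n generalizing b with
  | zero => ext <;> simp
  | succ n ih =>
    rw [pow_succ', MulAut.mul_apply, ih, β_apply]
    ext <;> simp only [scale] <;> ring

/-- A nontrivial scaling fixes only the identity. -/
theorem eq_one_of_β_fixed (hω1 : ω ≠ 1) {i : ℕ} (hi : i % 5 ≠ 0) {b : A K}
    (hb : (β hω ^ i) b = b) : b = 1 := by
  have hord : orderOf ω = 5 := orderOf_eq_prime (hp := ⟨Nat.prime_five⟩) hω hω1
  have hne : ∀ m : ℕ, m % 5 ≠ 0 → ω ^ m ≠ 1 := fun m hm h => hm (Nat.mod_eq_zero_of_dvd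
    (hord ▸ orderOf_dvd_of_pow_eq_one h))
  have h1 : ω ^ i ≠ 1 := hne i hi
  have h3 : (ω ^ i) ^ 3 ≠ 1 := by rw [← pow_mul]; exact hne _ (by omega)
  have h4 : (ω ^ i) ^ 4 ≠ 1 := by rw [← pow_mul]; exact hne _ (by omega)
  rw [β_pow_apply] at hb
  have hz : ∀ {c x : K}, c ≠ 1 → c * x = x → x = 0 := fun hc hx =>
    ((mul_left_eq_self₀).mp hx).resolve_left hc
  rw [one_def]
  exact A.ext (hz h3 (congrArg A.p hb)) (hz h1 (congrArg A.l hb)) (hz h3 (congrArg A.r hb))
    (hz h3 (congrArg A.s hb)) (hz h4 (congrArg A.s' hb)) (hz h4 (congrArg A.u hb))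
    (hz h3 (congrArg A.u' hb)) (hz h1 (congrArg A.z hb))

variable {h81 hω}

theorem pow_six_of_involution (g : Grp h81 hω) {i : ℕ}
    (hg : ((g.right : MulAut (A K))) = β hω ^ i * γ ^ 2) : g ^ 6 = 1 := by
  have hq : g.right * g.right = 1 := by
    refine Subtype.ext ?_
    rw [Subgroup.coe_mul, hg, βγ_mul, Subgroup.coe_one, γ_pow_four h81, mul_one,
      show i + 3 ^ 2 * i = 5 * (2 * i) by ring, pow_mul, β_pow_five, one_pow]
  have h2 : g ^ 2 = SemidirectProduct.inl (g.left * ((g.right : MulAut (A K))) g.left) := by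
    rw [pow_two]
    exact SemidirectProduct.ext (by simp [SemidirectProduct.mul_left])
      (by simp [SemidirectProduct.mul_right, hq])
  rw [show 6 = 2 * 3 from rfl, pow_mul, h2, ← map_pow, pow_three, hg,
    cube_mul_involution h81 hω, show (⟨0, 0, 0, 0, 0, 0, 0, 0⟩ : A K) = 1 from rfl, map_one]

theorem orderOf_dvd (hω1 : ω ≠ 1) (g : Grp h81 hω) :
    orderOf g ∣ 5 ∨ orderOf g ∣ 9 ∨ orderOf g ∣ 12 := by
  obtain ⟨i, j, hij⟩ := (mem_Q h81 hω).mp g.right.2
  rw [β_pow_mod, γ_pow_mod h81] at hij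
  obtain hj | hj | hj : j % 4 = 0 ∨ j % 4 = 2 ∨ (j % 4 = 1 ∨ j % 4 = 3) := by omega
  · rw [hj, pow_zero, mul_one] at hij
    rcases Nat.eq_zero_or_pos (i % 5) with hi | hi
    · right; left
      rw [hi, pow_zero] at hij
      refine orderOf_dvd_of_pow_eq_one ?_
      have e : g = SemidirectProduct.inl g.left :=
        SemidirectProduct.ext (by simp) (Subtype.ext (by simpa using hij))
      rw [e, ← map_pow, pow_nine, map_one]
    · left
      refine orderOf_dvd_of_pow_eq_one ?_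
      let ψ : MulAut (A K) := (g.right : MulAut (A K))
      have hinj : Function.Injective fun x : A K => x * (ψ x)⁻¹ := by
        intro x y hxy
        have h1 : y⁻¹ * x = 1 := by
          refine eq_one_of_β_fixed hω hω1 (i := i % 5) (by omega) ?_
          rw [← hij]
          show ψ (y⁻¹ * x) = y⁻¹ * x
          rw [map_mul, map_inv]
          simp only at hxy
          calc (ψ y)⁻¹ * ψ x = y⁻¹ * (y * (ψ y)⁻¹) * ψ x := by group
            _ = y⁻¹ * (x * (ψ x)⁻¹) * ψ x := by rw [hxy]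
            _ = y⁻¹ * x := by group
        exact (inv_mul_eq_one.mp h1).symm
      obtain ⟨x, hx⟩ := (Finite.injective_iff_bijective.mp hinj).2 g.left
      have e : g = MulAut.conj (SemidirectProduct.inl x : Grp h81 hω)
          (SemidirectProduct.inr g.right) := by
        refine SemidirectProduct.ext ?_ (by simp [SemidirectProduct.mul_right])
        simp only [MulAut.conj_apply, SemidirectProduct.mul_left, SemidirectProduct.mul_right,
          SemidirectProduct.inv_left, SemidirectProduct.left_inl, SemidirectProduct.right_inl,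
          SemidirectProduct.left_inr, SemidirectProduct.right_inr, one_mul, mul_one, map_one,
          inv_one, MulAut.one_apply, map_inv]
        exact hx.symm
      have h5 : g.right ^ 5 = 1 := Subtype.ext (by
        rw [Subgroup.coe_pow, Subgroup.coe_one, hij, ← pow_mul, mul_comm, pow_mul, β_pow_five,
          one_pow])
      rw [e, ← map_pow, ← map_pow, h5, map_one, map_one]
  · right; right
    refine orderOf_dvd_of_pow_eq_one ?_
    rw [hj] at hij
    rw [show 12 = 6 * 2 from rfl, pow_mul, pow_six_of_involution g hij, one_pow]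
  · right; right
    refine orderOf_dvd_of_pow_eq_one ?_
    have h2 : (((g ^ 2).right : MulAut (A K))) =
        β hω ^ (i % 5 + 3 ^ (j % 4) * (i % 5)) * γ ^ 2 := by
      rw [pow_two, SemidirectProduct.mul_right, Subgroup.coe_mul, hij, βγ_mul,
        γ_pow_mod h81 (j % 4 + j % 4), show (j % 4 + j % 4) % 4 = 2 by omega]
    rw [show 12 = 2 * 6 from rfl, pow_mul, pow_six_of_involution _ h2]

theorem isSolvable : Group.IsSolvable (Grp h81 hω) := by
  haveI : Fact (Nat.Prime 3) := ⟨Nat.prime_three⟩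
  have hp : IsPGroup 3 (A K) := fun a => ⟨2, pow_nine a⟩
  haveI := hp.isNilpotent
  haveI : Group.IsSolvable ↥(Q h81 hω) := by
    set Z : Subgroup ↥(Q h81 hω) := (Subgroup.zpowers (β (K := K) hω)).subgroupOf (Q h81 hω)
    have hcomm : commutator ↥(Q h81 hω) ≤ Z := by
      rw [commutator_def, Subgroup.commutator_le]
      intro a _ b _
      obtain ⟨i, j, ha⟩ := (mem_Q h81 hω).mp a.2
      obtain ⟨i', j', hb⟩ := (mem_Q h81 hω).mp b.2
      show ((⁅a, b⁆ : ↥(Q h81 hω)) : MulAut (A K)) ∈ Subgroup.zpowers (β hω)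
      have e : ((⁅a, b⁆ : ↥(Q h81 hω)) : MulAut (A K)) =
          β hω ^ (i + 3 ^ j * i') * (β hω ^ (i' + 3 ^ j' * i))⁻¹ := by
        rw [commutatorElement_def, mul_assoc, ← mul_inv_rev]
        simp only [Subgroup.coe_mul, Subgroup.coe_inv, ha, hb]
        rw [βγ_mul, βγ_mul, mul_inv_rev, add_comm j' j]
        group
      rw [e]
      exact mul_mem (Subgroup.npow_mem_zpowers _ _) (inv_mem (Subgroup.npow_mem_zpowers _ _))
    refine (Group.isSolvable_def _).mpr ⟨2, ?_⟩
    rw [derivedSeries_succ, derivedSeries_one, Subgroup.commutator_eq_bot_iff_le_centralizer]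
    intro a ha
    rw [Subgroup.mem_centralizer_iff]
    intro b hb
    obtain ⟨m, hm⟩ := Subgroup.mem_zpowers_iff.mp
      (show (a : MulAut (A K)) ∈ Subgroup.zpowers (β hω) from hcomm ha)
    obtain ⟨n, hn⟩ := Subgroup.mem_zpowers_iff.mp
      (show (b : MulAut (A K)) ∈ Subgroup.zpowers (β hω) from hcomm hb)
    refine Subtype.ext ?_
    rw [Subgroup.coe_mul, Subgroup.coe_mul, ← hm, ← hn, ← zpow_add, ← zpow_add, add_comm]
  exact solvable_of_ker_le_range SemidirectProduct.inl SemidirectProduct.rightHom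
    (by rw [SemidirectProduct.range_inl_eq_ker_rightHom])

/-- The example over `GF(81)`. -/
theorem exists_solvable_group :
    ∃ (H : Type) (_ : Group H) (_ : Fintype H), Group.IsSolvable H ∧
      Set.range (orderOf : H → ℕ) = {n | n ∣ 5 ∨ n ∣ 9 ∨ n ∣ 12} := by
  classical
  haveI : Fact (Nat.Prime 3) := ⟨Nat.prime_three⟩
  let K := GaloisField 3 4
  haveI : Fintype K := Fintype.ofFinite K
  have hK : Fintype.card K = 81 := by
    rw [← Nat.card_eq_fintype_card, GaloisField.card 3 4 (by norm_num)]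
    norm_num
  have h81 : ∀ x : K, x ^ 81 = x := fun x => hK ▸ FiniteField.pow_card x
  obtain ⟨g, hg⟩ := IsCyclic.exists_generator (α := Kˣ)
  have hgo : orderOf g = 80 := by
    rw [orderOf_eq_card_of_forall_mem_zpowers hg, Nat.card_units, Nat.card_eq_fintype_card, hK]
  have hne : ∀ m : ℕ, ¬ 80 ∣ m → (g : K) ^ m ≠ 1 := fun m hm h =>
    hm (hgo ▸ orderOf_dvd_of_pow_eq_one (Units.ext (by simpa using h)))
  set ω : K := (g : K) ^ 16 with hωdef
  have hω : ω ^ 5 = 1 := by
    rw [hωdef, ← pow_mul, ← Units.val_pow_eq_pow_val,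
      show g ^ (16 * 5) = 1 by rw [show 16 * 5 = orderOf g by rw [hgo], pow_orderOf_eq_one],
      Units.val_one]
  have hω1 : ω ≠ 1 := hne 16 (by norm_num)
  have hg9 : (g : K) ^ 9 ≠ g := fun h => hne 8 (by norm_num)
    (mul_right_cancel₀ (Units.ne_zero g) (by rw [← pow_succ, h, one_mul]))
  let H := Grp h81 hω
  haveI : Finite H := Finite.of_equiv _ SemidirectProduct.equivProd.symm
  haveI : Fintype H := Fintype.ofFinite H
  refine ⟨H, inferInstance, inferInstance, isSolvable, ?_⟩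
  let e1 : A K := ⟨0, 1, 0, 0, 0, 0, 0, 0⟩
  refine range_orderOf_eq (orderOf_dvd hω1) ?_ ?_ ?_
  · refine ⟨SemidirectProduct.inr ⟨β hω, (mem_Q h81 hω).mpr ⟨1, 0, by simp⟩⟩, ?_⟩
    rw [orderOf_injective _ SemidirectProduct.inr_injective, Subgroup.orderOf_mk]
    refine orderOf_eq_prime (hp := ⟨Nat.prime_five⟩) (β_pow_five hω) fun h => hω1 ?_
    have h1 := congrArg A.l (DFunLike.congr_fun h e1)
    simpa [β_apply, scale, e1] using h1
  · let a : A K := ⟨g, 1, 1, 0, 0, 0, 0, 0⟩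
    refine ⟨SemidirectProduct.inl a, ?_⟩
    rw [orderOf_injective _ SemidirectProduct.inl_injective, show 9 = 3 ^ (1 + 1) from rfl]
    refine orderOf_eq_prime_pow ?_ (pow_nine a)
    rw [pow_one, pow_three, one_def]
    intro h
    have h1 := congrArg A.z h
    simp [cube, a] at h1
    exact hg9 (sub_eq_zero.mp h1)
  · let γQ : ↥(Q h81 hω) := ⟨γ, (mem_Q h81 hω).mpr ⟨0, 1, by simp⟩⟩
    refine ⟨SemidirectProduct.inl e1 * SemidirectProduct.inr γQ, ?_⟩
    have hc : Commute (SemidirectProduct.inl e1 : H) (SemidirectProduct.inr γQ) := by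
      have h1 : (γ : MulAut (A K)) e1 = e1 := by ext <;> simp [γ_apply, e1]
      refine SemidirectProduct.ext ?_ ?_
      · simp [SemidirectProduct.mul_left, γQ, h1]
      · simp [SemidirectProduct.mul_right]
    have h3 : orderOf (SemidirectProduct.inl e1 : H) = 3 := by
      rw [orderOf_injective _ SemidirectProduct.inl_injective]
      refine orderOf_eq_prime ?_ ?_
      · rw [pow_three]; simp [cube, e1, one_def]
      · intro h
        have h1 := congrArg A.l h
        simp [e1, one_def] at h1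
    have h4 : orderOf (SemidirectProduct.inr γQ : H) = 4 := by
      haveI : Fact (Nat.Prime 2) := ⟨Nat.prime_two⟩
      rw [orderOf_injective _ SemidirectProduct.inr_injective, Subgroup.orderOf_mk]
      refine (orderOf_eq_prime_pow (p := 2) (n := 1) ?_ (γ_pow_four h81)).trans (by norm_num)
      rw [pow_one, pow_two]
      intro h
      have h1 := congrArg A.l (DFunLike.congr_fun h (⟨0, g, 0, 0, 0, 0, 0, 0⟩ : A K))
      simp only [MulAut.mul_apply, γ_apply, MulAut.one_apply, ← pow_mul] at h1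
      exact hg9 h1
    rw [hc.orderOf_mul_eq_mul_orderOf_of_coprime (by rw [h3, h4]; norm_num), h3, h4]

end CfsgLib.Spectrum.SolvPSp43
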