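import Cfsg.Prelude.Def_Classical
import Cfsg.Agent.Lib.Classical.SympCompanion
import Cfsg.Agent.Lib.FormRep.Symplectic
import Cfsg.Agent.Lib.Spectrum.SolvablePSpFourThree.Orders

/-!
# The element orders of `PSp(4, 3)`

The characteristic polynomial of an element of `Sp(4, 3)` is palindromic, so one of nine, and each
of these divides one of `X ^ 5 ± 1`, `X ^ 9 ± 1`, `X ^ 12 ± 1`.
-/

set_option autoImplicit false
set_option linter.unusedSectionVars false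
set_option linter.style.longLine false
set_option linter.style.haveILetI false

namespace CfsgLib.Spectrum.SolvPSp43

open Matrix Polynomial

variable {F : Type*} [Field F] [Fintype F]

theorem exists_dvd_X_pow_sub {a b : F} (h3 : (3 : F[X]) = 0) (ha : a = -1 ∨ a = 0 ∨ a = 1)
    (hb : b = -1 ∨ b = 0 ∨ b = 1) :
    ∃ (n : ℕ) (ε : F), (n = 5 ∨ n = 9 ∨ n = 12) ∧
      X ^ 4 + C a * X ^ 3 + C b * X ^ 2 + C a * X + 1 ∣ X ^ n - C ε := by
  rcases ha with rfl | rfl | rfl <;> rcases hb with rfl | rfl | rfl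
  · exact ⟨12, 1, Or.inr (Or.inr rfl), ⟨(X ^ 8 + X ^ 7 - X ^ 6 + X ^ 5 - X ^ 3 + X ^ 2 - X - 1 : F[X]), by simp only [map_neg, map_one, map_zero]; linear_combination (X ^ 10 - X ^ 2 : F[X]) * h3⟩⟩
  · exact ⟨9, 1, Or.inr (Or.inl rfl), ⟨(X ^ 5 + X ^ 4 + X ^ 3 - X ^ 2 - X - 1 : F[X]), by simp only [map_neg, map_one, map_zero]; linear_combination (X ^ 6 - X ^ 3 : F[X]) * h3⟩⟩
  · exact ⟨5, -1, Or.inl rfl, ⟨(X + 1 : F[X]), by simp only [map_neg, map_one, map_zero]; linear_combination 0 * h3⟩⟩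
  · exact ⟨12, 1, Or.inr (Or.inr rfl), ⟨(X ^ 8 + X ^ 6 - X ^ 2 - 1 : F[X]), by simp only [map_neg, map_one, map_zero]; linear_combination 0 * h3⟩⟩
  · exact ⟨12, -1, Or.inr (Or.inr rfl), ⟨(X ^ 8 - X ^ 4 + 1 : F[X]), by simp only [map_neg, map_one, map_zero]; linear_combination 0 * h3⟩⟩
  · exact ⟨12, 1, Or.inr (Or.inr rfl), ⟨(X ^ 8 - X ^ 6 + X ^ 2 - 1 : F[X]), by simp only [map_neg, map_one, map_zero]; linear_combination 0 * h3⟩⟩
  · exact ⟨12, 1, Or.inr (Or.inr rfl), ⟨(X ^ 8 - X ^ 7 - X ^ 6 - X ^ 5 + X ^ 3 + X ^ 2 + X - 1 : F[X]), by simp only [map_neg, map_one, map_zero]; linear_combination (X ^ 10 - X ^ 2 : F[X]) * h3⟩⟩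
  · exact ⟨9, -1, Or.inr (Or.inl rfl), ⟨(X ^ 5 - X ^ 4 + X ^ 3 + X ^ 2 - X + 1 : F[X]), by simp only [map_neg, map_one, map_zero]; linear_combination (- X ^ 6 - X ^ 3 : F[X]) * h3⟩⟩
  · exact ⟨5, 1, Or.inl rfl, ⟨(X - 1 : F[X]), by simp only [map_neg, map_one, map_zero]; linear_combination 0 * h3⟩⟩

theorem zmod_three_cases : ∀ d : ZMod 3, d = -1 ∨ d = 0 ∨ d = 1 := by decide

theorem orderOf_dvd_psp (hF : Fintype.card F = 3) (x : Cfsg.PSp 2 F) :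
    orderOf x ∣ 5 ∨ orderOf x ∣ 9 ∨ orderOf x ∣ 12 := by
  classical
  obtain ⟨g, rfl⟩ := QuotientGroup.mk_surjective x
  set A := (g : Matrix (Fin 2 ⊕ Fin 2) (Fin 2 ⊕ Fin 2) F) with hA
  obtain ⟨h0, hrev⟩ := CfsgLib.Classical.SympCompanion.charpoly_palindromic g
  have hd : A.charpoly.natDegree = 4 := by rw [Matrix.charpoly_natDegree_eq_dim]; rfl
  have h4 : A.charpoly.coeff 4 = 1 := by
    rw [← hd]; exact A.charpoly_monic
  have h31 : A.charpoly.coeff 3 = A.charpoly.coeff 1 := by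
    conv_rhs => rw [← hrev]
    rw [Polynomial.coeff_reverse, hd]
    rfl
  have hp : A.charpoly = X ^ 4 + C (A.charpoly.coeff 1) * X ^ 3 + C (A.charpoly.coeff 2) * X ^ 2 +
      C (A.charpoly.coeff 1) * X + 1 := by
    conv_lhs => rw [A.charpoly.as_sum_range_C_mul_X_pow, hd]
    simp only [Finset.sum_range_succ, Finset.sum_range_zero, h4, h31, hA ▸ h0, map_one]
    ring
  haveI : Fact (Nat.Prime 3) := ⟨Nat.prime_three⟩
  let φ : ZMod 3 ≃+* F := ZMod.ringEquivOfPrime F Nat.prime_three hF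
  have hall : ∀ c : F, c = -1 ∨ c = 0 ∨ c = 1 := by
    intro c
    obtain ⟨d, rfl⟩ := φ.surjective c
    obtain rfl | rfl | rfl := zmod_three_cases d
    · exact Or.inl (by rw [map_neg, map_one])
    · exact Or.inr (Or.inl (map_zero φ))
    · exact Or.inr (Or.inr (map_one φ))
  have h3 : (3 : F[X]) = 0 := by
    rw [← map_ofNat (C : F →+* F[X]), show (3 : F) = φ 3 from (map_ofNat φ 3).symm,
      show (3 : ZMod 3) = 0 from rfl, map_zero, map_zero]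
  obtain ⟨n, ε, hn, hdvd⟩ := exists_dvd_X_pow_sub h3 (hall (A.charpoly.coeff 1))
    (hall (A.charpoly.coeff 2))
  rw [← hp] at hdvd
  obtain ⟨q, hq⟩ := hdvd
  have h1 := congrArg (Polynomial.aeval A) hq
  rw [map_mul, Matrix.aeval_self_charpoly, zero_mul, map_sub, map_pow, aeval_X, aeval_C,
    sub_eq_zero, Algebra.algebraMap_eq_smul_one] at h1
  have h2 : (QuotientGroup.mk g : Cfsg.PSp 2 F) ^ n = 1 := by
    rw [← QuotientGroup.mk_pow, QuotientGroup.eq_one_iff, CfsgLib.FormRep.Symplectic.center_iff]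
    exact ⟨ε, by rw [SubmonoidClass.coe_pow]; exact h1⟩
  rcases hn with rfl | rfl | rfl
  · exact Or.inl (orderOf_dvd_of_pow_eq_one h2)
  · exact Or.inr (Or.inl (orderOf_dvd_of_pow_eq_one h2))
  · exact Or.inr (Or.inr (orderOf_dvd_of_pow_eq_one h2))

/-- A matrix over `ZMod 3` seen in `Sp(4, F)`. -/
def lift (φ : ZMod 3 →+* F) (M : Matrix (Fin 2 ⊕ Fin 2) (Fin 2 ⊕ Fin 2) (ZMod 3))
    (h : M * Matrix.J (Fin 2) (ZMod 3) * Mᵀ = Matrix.J (Fin 2) (ZMod 3)) :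
    Matrix.symplecticGroup (Fin 2) F :=
  ⟨M.map φ, by
    rw [SymplecticGroup.mem_iff]
    have e : (Matrix.J (Fin 2) (ZMod 3)).map φ = Matrix.J (Fin 2) F := by
      ext i j
      rcases i with i | i <;> rcases j with j | j <;> simp [Matrix.J, Matrix.one_apply, apply_ite φ]
    rw [← e, ← Matrix.transpose_map, ← Matrix.map_mul, ← Matrix.map_mul, h]⟩

theorem mk_lift_pow_eq_one_iff (φ : ZMod 3 →+* F) (hinj : Function.Injective φ)
    (hsurj : Function.Surjective φ) (M : Matrix (Fin 2 ⊕ Fin 2) (Fin 2 ⊕ Fin 2) (ZMod 3))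
    (h : M * Matrix.J (Fin 2) (ZMod 3) * Mᵀ = Matrix.J (Fin 2) (ZMod 3)) (n : ℕ) :
    (QuotientGroup.mk (lift φ M h) : Cfsg.PSp 2 F) ^ n = 1 ↔
      ∃ c : ZMod 3, M ^ n = c • 1 := by
  rw [← QuotientGroup.mk_pow, QuotientGroup.eq_one_iff, CfsgLib.FormRep.Symplectic.center_iff]
  have e : (((lift φ M h) ^ n : Matrix.symplecticGroup (Fin 2) F) :
      Matrix (Fin 2 ⊕ Fin 2) (Fin 2 ⊕ Fin 2) F) = (M ^ n).map φ := by
    rw [SubmonoidClass.coe_pow]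
    exact (map_pow φ.mapMatrix M n).symm
  have e2 : ∀ c : ZMod 3, (c • (1 : Matrix (Fin 2 ⊕ Fin 2) (Fin 2 ⊕ Fin 2) (ZMod 3))).map φ =
      φ c • (1 : Matrix (Fin 2 ⊕ Fin 2) (Fin 2 ⊕ Fin 2) F) := by
    intro c
    ext i j
    simp [Matrix.one_apply, apply_ite φ]
  simp only [e]
  constructor
  · rintro ⟨c, hc⟩
    obtain ⟨d, rfl⟩ := hsurj c
    exact ⟨d, Matrix.map_injective hinj (hc.trans (e2 d).symm)⟩
  · rintro ⟨c, hc⟩
    exact ⟨φ c, by rw [hc, e2]⟩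

/-- An element of order five. -/
def m5 : Matrix (Fin 2 ⊕ Fin 2) (Fin 2 ⊕ Fin 2) (ZMod 3) :=
  Matrix.fromBlocks 0 !![2, 2; 0, 2] !![1, 0; 2, 1] !![0, 0; 0, 1]

/-- An element of order nine. -/
def m9 : Matrix (Fin 2 ⊕ Fin 2) (Fin 2 ⊕ Fin 2) (ZMod 3) :=
  Matrix.fromBlocks !![1, 0; 1, 0] !![0, 1; 0, 0] !![0, 2; 0, 1] !![0, 0; 1, 0]

/-- An element of order twelve. -/
def m12 : Matrix (Fin 2 ⊕ Fin 2) (Fin 2 ⊕ Fin 2) (ZMod 3) :=
  Matrix.fromBlocks !![0, 0; 0, 1] !![2, 0; 0, 1] !![1, 0; 0, 0] !![0, 0; 0, 1]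

set_option maxRecDepth 100000 in
theorem m5_facts : m5 * Matrix.J (Fin 2) (ZMod 3) * m5ᵀ = Matrix.J (Fin 2) (ZMod 3) ∧
    (∃ c : ZMod 3, m5 ^ 5 = c • 1) ∧ ¬ ∃ c : ZMod 3, m5 ^ 1 = c • 1 := by decide

set_option maxRecDepth 100000 in
theorem m9_facts : m9 * Matrix.J (Fin 2) (ZMod 3) * m9ᵀ = Matrix.J (Fin 2) (ZMod 3) ∧
    (∃ c : ZMod 3, m9 ^ 9 = c • 1) ∧ ¬ ∃ c : ZMod 3, m9 ^ 3 = c • 1 := by decide

set_option maxRecDepth 100000 in
theorem m12_facts : m12 * Matrix.J (Fin 2) (ZMod 3) * m12ᵀ = Matrix.J (Fin 2) (ZMod 3) ∧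
    (∃ c : ZMod 3, m12 ^ 12 = c • 1) ∧ (¬ ∃ c : ZMod 3, m12 ^ 6 = c • 1) ∧
    ¬ ∃ c : ZMod 3, m12 ^ 4 = c • 1 := by decide

theorem range_orderOf_psp (hF : Fintype.card F = 3) :
    Set.range (orderOf : Cfsg.PSp 2 F → ℕ) = {n | n ∣ 5 ∨ n ∣ 9 ∨ n ∣ 12} := by
  classical
  obtain ⟨a5, b5, c5⟩ := m5_facts
  obtain ⟨a9, b9, c9⟩ := m9_facts
  obtain ⟨a12, b12, c12, d12⟩ := m12_facts
  haveI : Fact (Nat.Prime 3) := ⟨Nat.prime_three⟩
  let φ : ZMod 3 ≃+* F := ZMod.ringEquivOfPrime F Nat.prime_three hF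
  have key := mk_lift_pow_eq_one_iff φ.toRingHom φ.injective φ.surjective
  refine range_orderOf_eq (orderOf_dvd_psp hF)
    ⟨(QuotientGroup.mk (lift φ.toRingHom m5 a5) : Cfsg.PSp 2 F), ?_⟩
    ⟨(QuotientGroup.mk (lift φ.toRingHom m9 a9) : Cfsg.PSp 2 F), ?_⟩
    ⟨(QuotientGroup.mk (lift φ.toRingHom m12 a12) : Cfsg.PSp 2 F), ?_⟩
  · refine orderOf_eq_of_pow_and_pow_div_prime (by norm_num) ((key _ _ _).mpr b5) fun r hr hd => ?_
    obtain rfl := (Nat.prime_dvd_prime_iff_eq hr (by norm_num)).mp hd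
    rw [ne_eq, key]
    exact c5
  · refine orderOf_eq_of_pow_and_pow_div_prime (by norm_num) ((key _ _ _).mpr b9) fun r hr hd => ?_
    obtain rfl := (Nat.prime_dvd_prime_iff_eq hr Nat.prime_three).mp
      (hr.dvd_of_dvd_pow (show r ∣ 3 ^ 2 from hd))
    rw [ne_eq, key]
    exact c9
  · refine orderOf_eq_of_pow_and_pow_div_prime (by norm_num) ((key _ _ _).mpr b12)
      fun r hr hd => ?_
    rcases (Nat.Prime.dvd_mul hr).mp (show r ∣ 2 ^ 2 * 3 from hd) with h | h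
    · obtain rfl := (Nat.prime_dvd_prime_iff_eq hr Nat.prime_two).mp (hr.dvd_of_dvd_pow h)
      rw [ne_eq, key]
      exact c12
    · obtain rfl := (Nat.prime_dvd_prime_iff_eq hr Nat.prime_three).mp h
      rw [ne_eq, key]
      exact d12

end CfsgLib.Spectrum.SolvPSp43
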