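import Mathlib

/-!
# A solvable group with element orders `1, 2, 3, 4, 5, 6, 9, 12`

Over `K = GF(81)` let `A` be the group of the `6 × 6` unipotent matrices with entries `p⁹, p` in the
first step, `l, l` in the second, `r, -r⁹` in the third and arbitrary entries above, written by
coordinates.  An element of order `5` of `Kˣ` scales `A` without fixed points, the Frobenius map
normalizes this scaling, and the square of an element of `A` fixed by the involutions so obtained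
has trivial cube.
-/

set_option autoImplicit false
set_option linter.unusedSectionVars false

namespace CfsgLib.Spectrum.SolvPSp43

variable (K : Type*) [Field K] [CharP K 3]

/-- The coordinates of the unipotent group. -/
@[ext]
structure A where
  p : K
  l : K
  r : K
  s : K
  s' : K
  u : K
  u' : K
  z : K

variable {K}

instance : One (A K) := ⟨⟨0, 0, 0, 0, 0, 0, 0, 0⟩⟩

instance : Mul (A K) := ⟨fun a b => ⟨a.p + b.p, a.l + b.l, a.r + b.r, a.s + b.s + a.p ^ 9 * b.l,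
  a.s' + b.s' + a.p * b.l, a.u + b.u + a.l * b.r, a.u' + b.u' - a.l * b.r ^ 9,
  a.z + b.z + a.p ^ 9 * b.u + a.p * b.u' + a.s * b.r - a.s' * b.r ^ 9⟩⟩

instance : Inv (A K) := ⟨fun a => ⟨-a.p, -a.l, -a.r, -a.s + a.p ^ 9 * a.l, -a.s' + a.p * a.l,
  -a.u + a.l * a.r, -a.u' - a.l * a.r ^ 9,
  -a.z - a.p ^ 9 * (-a.u + a.l * a.r) - a.p * (-a.u' - a.l * a.r ^ 9) + a.s * a.r - a.s' * a.r ^ 9⟩⟩

theorem one_def : (1 : A K) = ⟨0, 0, 0, 0, 0, 0, 0, 0⟩ := rfl

theorem mul_def (a b : A K) : a * b = ⟨a.p + b.p, a.l + b.l, a.r + b.r,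
  a.s + b.s + a.p ^ 9 * b.l, a.s' + b.s' + a.p * b.l, a.u + b.u + a.l * b.r,
  a.u' + b.u' - a.l * b.r ^ 9,
  a.z + b.z + a.p ^ 9 * b.u + a.p * b.u' + a.s * b.r - a.s' * b.r ^ 9⟩ := rfl

theorem inv_def (a : A K) : a⁻¹ = ⟨-a.p, -a.l, -a.r, -a.s + a.p ^ 9 * a.l, -a.s' + a.p * a.l,
  -a.u + a.l * a.r, -a.u' - a.l * a.r ^ 9,
  -a.z - a.p ^ 9 * (-a.u + a.l * a.r) - a.p * (-a.u' - a.l * a.r ^ 9) + a.s * a.r - a.s' * a.r ^ 9⟩ :=
  rfl

theorem add_pow_nine (x y : K) : (x + y) ^ 9 = x ^ 9 + y ^ 9 := by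
  haveI : Fact (Nat.Prime 3) := ⟨Nat.prime_three⟩
  rw [show (9 : ℕ) = 3 ^ 2 by norm_num]
  exact add_pow_char_pow x y 3 2

instance : Group (A K) := Group.ofLeftAxioms
  (fun a b c => by
    ext <;> simp only [mul_def, add_pow_nine] <;> ring)
  (fun a => by ext <;> simp only [mul_def, one_def] <;> ring)
  (fun a => by
    ext <;> simp only [mul_def, one_def, inv_def] <;> ring)

instance [Fintype K] : Fintype (A K) :=
  Fintype.ofEquiv (K × K × K × K × K × K × K × K)
    { toFun := fun ⟨p, l, r, s, s', u, u', z⟩ => ⟨p, l, r, s, s', u, u', z⟩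
      invFun := fun a => ⟨a.p, a.l, a.r, a.s, a.s', a.u, a.u', a.z⟩
      left_inv := fun _ => rfl
      right_inv := fun _ => rfl }

/-- The value of the cube map. -/
def cube (a : A K) : K := a.l * (a.p ^ 9 * a.r - a.p * a.r ^ 9)

theorem three_eq_zero : (3 : K) = 0 := by exact_mod_cast CharP.cast_eq_zero K 3

theorem pow_three (a : A K) : a ^ 3 = ⟨0, 0, 0, 0, 0, 0, 0, cube a⟩ := by
  have h3 : (3 : K) = 0 := three_eq_zero
  rw [pow_succ, pow_two]
  ext <;> simp only [mul_def, cube, add_pow_nine]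
  · linear_combination a.p * h3
  · linear_combination a.l * h3
  · linear_combination a.r * h3
  · linear_combination (a.s + a.p ^ 9 * a.l) * h3
  · linear_combination (a.s' + a.p * a.l) * h3
  · linear_combination (a.u + a.l * a.r) * h3
  · linear_combination (a.u' - a.l * a.r ^ 9) * h3
  · linear_combination (a.z + a.p ^ 9 * a.u + a.p * a.u' + a.s * a.r - a.s' * a.r ^ 9) * h3

theorem pow_nine (a : A K) : a ^ 9 = 1 := by
  rw [show (9 : ℕ) = 3 * 3 by norm_num, pow_mul, pow_three, pow_three]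
  simp [cube, one_def]

section Aut

variable (ω : K)

/-- Scaling by powers of `ω`. -/
def scale (hω : ω ^ 5 = 1) (a : A K) : A K :=
  ⟨ω ^ 3 * a.p, ω * a.l, ω ^ 3 * a.r, ω ^ 3 * a.s, ω ^ 4 * a.s', ω ^ 4 * a.u, ω ^ 3 * a.u', ω * a.z⟩

variable {ω}

theorem scale_mul (hω : ω ^ 5 = 1) (a b : A K) :
    scale ω hω (a * b) = scale ω hω a * scale ω hω b := by
  have h9 : (ω ^ 3) ^ 9 = ω ^ 2 := by
    calc (ω ^ 3) ^ 9 = (ω ^ 5) ^ 5 * ω ^ 2 := by ring
      _ = ω ^ 2 := by rw [hω, one_pow, one_mul]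
  ext <;> simp only [scale, mul_def, mul_pow, h9]
  · ring
  · ring
  · ring
  · ring
  · ring
  · ring
  · ring
  · linear_combination
      (-(ω * (a.p ^ 9 * b.u + a.p * b.u' + a.s * b.r - a.s' * b.r ^ 9))) * hω

/-- The fixed-point-free automorphism of order five. -/
def β (hω : ω ^ 5 = 1) : MulAut (A K) where
  toFun := scale ω hω
  invFun a := scale (ω ^ 4) (by rw [← pow_mul, mul_comm, pow_mul, hω, one_pow]) a
  left_inv a := by
    ext <;> simp only [scale]
    · linear_combination (a.p * (ω ^ 10 + ω ^ 5 + 1)) * hω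
    · linear_combination a.l * hω
    · linear_combination (a.r * (ω ^ 10 + ω ^ 5 + 1)) * hω
    · linear_combination (a.s * (ω ^ 10 + ω ^ 5 + 1)) * hω
    · linear_combination (a.s' * (ω ^ 15 + ω ^ 10 + ω ^ 5 + 1)) * hω
    · linear_combination (a.u * (ω ^ 15 + ω ^ 10 + ω ^ 5 + 1)) * hω
    · linear_combination (a.u' * (ω ^ 10 + ω ^ 5 + 1)) * hω
    · linear_combination a.z * hω
  right_inv a := by
    ext <;> simp only [scale]
    · linear_combination (a.p * (ω ^ 10 + ω ^ 5 + 1)) * hω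
    · linear_combination a.l * hω
    · linear_combination (a.r * (ω ^ 10 + ω ^ 5 + 1)) * hω
    · linear_combination (a.s * (ω ^ 10 + ω ^ 5 + 1)) * hω
    · linear_combination (a.s' * (ω ^ 15 + ω ^ 10 + ω ^ 5 + 1)) * hω
    · linear_combination (a.u * (ω ^ 15 + ω ^ 10 + ω ^ 5 + 1)) * hω
    · linear_combination (a.u' * (ω ^ 10 + ω ^ 5 + 1)) * hω
    · linear_combination a.z * hω
  map_mul' := scale_mul hω

variable [Fintype K]

/-- The field automorphism `x ↦ x ^ 3` on every coordinate. -/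
noncomputable def γ : MulAut (A K) :=
  MulEquiv.ofBijective
    ({ toFun := fun a => ⟨a.p ^ 3, a.l ^ 3, a.r ^ 3, a.s ^ 3, a.s' ^ 3, a.u ^ 3, a.u' ^ 3, a.z ^ 3⟩
       map_one' := by simp [one_def]
       map_mul' := fun a b => by
        haveI : Fact (Nat.Prime 3) := ⟨Nat.prime_three⟩
        ext <;> simp only [mul_def, add_pow_char, sub_pow_char, mul_pow, ← pow_mul] } : A K →* A K)
    (Finite.injective_iff_bijective.mp fun a b h => by
      haveI : Fact (Nat.Prime 3) := ⟨Nat.prime_three⟩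
      have hinj : Function.Injective fun x : K => x ^ 3 := frobenius_inj K 3
      simp only [MonoidHom.coe_mk, OneHom.coe_mk, A.mk.injEq] at h
      obtain ⟨h1, h2, h3, h4, h5, h6, h7, h8⟩ := h
      exact A.ext (hinj h1) (hinj h2) (hinj h3) (hinj h4) (hinj h5) (hinj h6) (hinj h7) (hinj h8))

theorem β_apply (hω : ω ^ 5 = 1) (a : A K) : β hω a = scale ω hω a := rfl

theorem γ_apply (a : A K) : (γ : MulAut (A K)) a =
    ⟨a.p ^ 3, a.l ^ 3, a.r ^ 3, a.s ^ 3, a.s' ^ 3, a.u ^ 3, a.u' ^ 3, a.z ^ 3⟩ := rfl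

theorem γ_mul_β (hω : ω ^ 5 = 1) : (γ : MulAut (A K)) * β hω = β hω ^ 3 * γ := by
  refine MulEquiv.ext fun a => ?_
  rw [show β (K := K) hω ^ 3 = β hω * β hω * β hω by simp [pow_succ]]
  simp only [MulAut.mul_apply, β_apply, γ_apply, scale]
  ext <;> ring

theorem β_pow_five (hω : ω ^ 5 = 1) : β (K := K) hω ^ 5 = 1 := by
  refine MulEquiv.ext fun a => ?_
  rw [show β (K := K) hω ^ 5 = β hω * β hω * β hω * β hω * β hω by simp [pow_succ]]
  simp only [MulAut.mul_apply, β_apply, scale, MulAut.one_apply]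
  have h15 : ω ^ 15 = 1 := by rw [show ω ^ 15 = (ω ^ 5) ^ 3 by ring, hω, one_pow]
  have h20 : ω ^ 20 = 1 := by rw [show ω ^ 20 = (ω ^ 5) ^ 4 by ring, hω, one_pow]
  ext <;> ring_nf <;> simp [h15, h20, hω]

theorem γ_pow_four (h81 : ∀ x : K, x ^ 81 = x) : (γ : MulAut (A K)) ^ 4 = 1 := by
  refine MulEquiv.ext fun a => ?_
  rw [show (γ : MulAut (A K)) ^ 4 = γ * γ * γ * γ by simp [pow_succ]]
  simp only [MulAut.mul_apply, γ_apply, MulAut.one_apply]
  ext <;> simp only [← pow_mul] <;> exact h81 _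

/-- The linear coordinates of the square of an element of the coset of an involution have trivial
cube. -/
theorem cube_mul_involution (h81 : ∀ x : K, x ^ 81 = x) (hω : ω ^ 5 = 1) (i : ℕ) (a : A K) :
    cube (a * (β hω ^ i * γ ^ 2 : MulAut (A K)) a) = 0 := by
  have hpow : ∀ (n : ℕ) (b : A K), (β hω ^ n) b =
      ⟨(ω ^ n) ^ 3 * b.p, ω ^ n * b.l, (ω ^ n) ^ 3 * b.r, (ω ^ n) ^ 3 * b.s, (ω ^ n) ^ 4 * b.s',
        (ω ^ n) ^ 4 * b.u, (ω ^ n) ^ 3 * b.u', ω ^ n * b.z⟩ := by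
    intro n
    induction n with
    | zero => intro b; ext <;> simp
    | succ n ih =>
      intro b
      rw [pow_succ', MulAut.mul_apply, ih, β_apply]
      ext <;> simp only [scale] <;> ring
  simp only [MulAut.mul_apply, pow_two, γ_apply, hpow, cube, mul_def, add_pow_nine, mul_pow,
    ← pow_mul]
  have e25 : ω ^ (i * 30) = 1 := by
    rw [show i * 30 = 5 * (6 * i) by ring, pow_mul, hω, one_pow]
  simp only [show (3 * 3 * 9 : ℕ) = 81 by norm_num, h81, show (3 * 3 : ℕ) = 9 by norm_num]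
  linear_combination (-(a.l + ω ^ i * a.l ^ 9) *
    (a.p ^ 9 * a.r - a.p * a.r ^ 9)) * e25

end Aut

end CfsgLib.Spectrum.SolvPSp43
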